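import Groth.Prelude.Def_CohCx
import Groth.Agent.Lib.ZarCoh.Basic
import Groth.Agent.Lib.SiteCoh.Higher
import Groth.Agent.Lib.RDer.TransLES
import Mathlib.Topology.Sheaves.SheafCondition.UniqueGluing
import Mathlib.CategoryTheory.Sites.EpiMono

/-!
# The Mayer-Vietoris sequence for higher direct images
-/

set_option autoImplicit false
set_option linter.style.haveILetI false

universe u

open CategoryTheory CategoryTheory.Limits TopologicalSpace Opposite

namespace Groth.Agent.Lib.TopMV.Relative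

variable {X Y : TopCat.{u}}

/-- Restriction of sections. -/
noncomputable abbrev res (F : CohTop.Ab X) {A B : Opens X} (h : B ≤ A) :
    F.obj.obj (op A) ⟶ F.obj.obj (op B) := F.obj.map (homOfLE h).op

lemma res_res (F : CohTop.Ab X) {A B C : Opens X} (h : B ≤ A) (h' : C ≤ B) (x : F.obj.obj (op A)) :
    res F h' (res F h x) = res F (h'.trans h) x := by
  change (res F h ≫ res F h') x = _
  rw [← F.obj.map_comp]
  rfl

section Sections

variable (F : CohTop.Ab X) {A P Q R : Opens X} (hP : P ≤ A) (hQ : Q ≤ A) (hA : A ≤ P ⊔ Q)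
  (hRP : R ≤ P) (hRQ : R ≤ Q) (hR : P ⊓ Q ≤ R)

include hA in
lemma eq_zero_of_res (x : F.obj.obj (op A)) (h₁ : res F hP x = 0) (h₂ : res F hQ x = 0) : x = 0 :=
  TopCat.Sheaf.eq_of_locally_eq₂ F (homOfLE hP) (homOfLE hQ) hA x 0
    (h₁.trans (map_zero _).symm) (h₂.trans (map_zero _).symm)

include hA hR in
lemma exists_glue (y : F.obj.obj (op P)) (z : F.obj.obj (op Q)) (h : res F hRP y = res F hRQ z) :
    ∃ x : F.obj.obj (op A), res F hP x = y ∧ res F hQ x = z := by
  let V : ULift.{u} Bool → Opens X := fun b => bif b.down then P else Q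
  let iV : ∀ b, V b ⟶ A := fun ⟨b⟩ => match b with
    | true => homOfLE hP
    | false => homOfLE hQ
  let sf : ∀ b, F.obj.obj (op (V b)) := fun ⟨b⟩ => match b with
    | true => y
    | false => z
  have hcov : A ≤ iSup V := hA.trans (sup_le (le_iSup V ⟨true⟩) (le_iSup V ⟨false⟩))
  have hc : TopCat.Presheaf.IsCompatible F.obj V sf := by
    rintro ⟨_ | _⟩ ⟨_ | _⟩
    · rfl
    · have hle : Q ⊓ P ≤ R := inf_comm Q P ▸ hR
      change res F inf_le_left z = res F inf_le_right y
      exact ((res_res F hRQ hle z).symm.trans (congrArg (res F hle) h.symm)).trans (res_res F hRP hle y)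
    · change res F inf_le_left y = res F inf_le_right z
      exact ((res_res F hRP hR y).symm.trans (congrArg (res F hR) h)).trans (res_res F hRQ hR z)
    · rfl
  obtain ⟨x, hx, -⟩ := TopCat.Sheaf.existsUnique_gluing' F V A iV hcov sf hc
  exact ⟨x, hx ⟨true⟩, hx ⟨false⟩⟩

lemma surjective_res [TopCat.Sheaf.IsFlasque F] (w : F.obj.obj (op R)) :
    ∃ y : F.obj.obj (op P), res F hRP y = w :=
  Lib.ZarCoh.Basic.flasque_surjective F hRP w

end Sections

variable (f : X ⟶ Y) (U V : Opens X)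

/-- The open of `X` over `W` inside `U`. -/
abbrev over (U : Opens X) (W : Opens Y) : Opens X :=
  U.isOpenEmbedding.functor.obj ((Opens.map (CohCx.incl U ≫ f)).obj W)

lemma mem_over (W : Opens Y) (x : X) : x ∈ over f U W ↔ x ∈ U ∧ f.hom x ∈ W := by
  constructor
  · rintro ⟨y, hy, rfl⟩
    exact ⟨y.2, hy⟩
  · exact fun h => ⟨⟨x, h.1⟩, h.2, rfl⟩

/-- The natural transformations compose to zero. -/
theorem w (I : CohTop.Ab X) :
    biprod.lift ((CohCx.pushToRestrPush f U).app I) ((CohCx.pushToRestrPush f V).app I) ≫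
      biprod.desc ((CohCx.restrPushToRestrPush f (inf_le_left : U ⊓ V ≤ U)).app I)
        (-((CohCx.restrPushToRestrPush f (inf_le_right : U ⊓ V ≤ V)).app I)) = 0 := by
  rw [biprod.lift_desc, Preadditive.comp_neg, ← sub_eq_add_neg, sub_eq_zero]
  ext : 2
  funext W
  change I.obj.map _ ≫ I.obj.map _ = I.obj.map _ ≫ I.obj.map _
  rw [← I.obj.map_comp, ← I.obj.map_comp]
  rfl

variable {U V}

/-- Sections of a biproduct are determined by their components. -/
lemma biprod_app_ext {P Q : CohTop.Ab Y} (W : Opens Y) (x : (P ⊞ Q).obj.obj (op W)) :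
    x = (biprod.inl : P ⟶ P ⊞ Q).hom.app (op W) ((biprod.fst : P ⊞ Q ⟶ P).hom.app (op W) x) +
      (biprod.inr : Q ⟶ P ⊞ Q).hom.app (op W) ((biprod.snd : P ⊞ Q ⟶ Q).hom.app (op W) x) :=
  (congrArg (fun φ : P ⊞ Q ⟶ P ⊞ Q => φ.hom.app (op W) x) (biprod.total (X := P) (Y := Q))).symm

lemma app_comp {P Q R : CohTop.Ab Y} (a : P ⟶ Q) (b : Q ⟶ R) {W : Opens Y} (x : P.obj.obj (op W)) :
    b.hom.app (op W) (a.hom.app (op W) x) = (a ≫ b).hom.app (op W) x := rfl

theorem shortExact (hUV : U ⊔ V = ⊤) (I : CohTop.Ab X) [Injective I] :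
    (ShortComplex.mk _ _ (w f U V I)).ShortExact := by
  haveI := Lib.ZarCoh.Basic.isFlasque_of_injective I
  have hP : ∀ (U : Opens X) (W : Opens Y), over f U W ≤ (Opens.map f).obj W :=
    fun U W x hx => ((mem_over f U W x).1 hx).2
  have hA : ∀ W : Opens Y, (Opens.map f).obj W ≤ over f U W ⊔ over f V W := fun W x hx => by
    have hx' : x ∈ U ⊔ V := hUV ▸ Opens.mem_top x
    rcases hx' with h | h
    · exact Or.inl ((mem_over f U W x).2 ⟨h, hx⟩)
    · exact Or.inr ((mem_over f V W x).2 ⟨h, hx⟩)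
  have hRU : ∀ W : Opens Y, over f (U ⊓ V) W ≤ over f U W := fun W x hx =>
    (mem_over f U W x).2 ⟨((mem_over f _ W x).1 hx).1.1, ((mem_over f _ W x).1 hx).2⟩
  have hRV : ∀ W : Opens Y, over f (U ⊓ V) W ≤ over f V W := fun W x hx =>
    (mem_over f V W x).2 ⟨((mem_over f _ W x).1 hx).1.2, ((mem_over f _ W x).1 hx).2⟩
  have hR : ∀ W : Opens Y, over f U W ⊓ over f V W ≤ over f (U ⊓ V) W := fun W x hx =>
    (mem_over f _ W x).2 ⟨⟨((mem_over f U W x).1 hx.1).1, ((mem_over f V W x).1 hx.2).1⟩,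
      ((mem_over f U W x).1 hx.1).2⟩
  let aU := (CohCx.pushToRestrPush f U).app I
  let aV := (CohCx.pushToRestrPush f V).app I
  let bU := (CohCx.restrPushToRestrPush f (inf_le_left : U ⊓ V ≤ U)).app I
  let bV := (CohCx.restrPushToRestrPush f (inf_le_right : U ⊓ V ≤ V)).app I
  let PU := (CohTop.restrFunctor U ⋙ CohTop.push (CohCx.incl U ≫ f)).obj I
  let PV := (CohTop.restrFunctor V ⋙ CohTop.push (CohCx.incl V ≫ f)).obj I
  have hmono : Mono (biprod.lift aU aV) := by
    refine Preadditive.mono_of_cancel_zero _ fun {Z} k hk => ?_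
    have h₁ : k ≫ aU = 0 := by simpa using hk =≫ biprod.fst
    have h₂ : k ≫ aV = 0 := by simpa using hk =≫ biprod.snd
    ext W z
    exact eq_zero_of_res I (hP U W.unop) (hP V W.unop) (hA W.unop) (k.hom.app W z)
      (congrArg (fun φ => φ.hom.app W z) h₁) (congrArg (fun φ => φ.hom.app W z) h₂)
  have hexact : (ShortComplex.mk _ _ (w f U V I)).Exact := by
    refine SiteCoh.Higher.exact_of_sections _ fun W x hx => ?_
    let y := (biprod.fst : PU ⊞ PV ⟶ PU).hom.app (op W) x
    let z := (biprod.snd : PU ⊞ PV ⟶ PV).hom.app (op W) x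
    have hxyz : bU.hom.app (op W) y - bV.hom.app (op W) z = 0 := by
      have h₁ : (biprod.desc bU (-bV)).hom.app (op W) ((biprod.inl : PU ⟶ PU ⊞ PV).hom.app (op W) y) =
          bU.hom.app (op W) y :=
        (app_comp biprod.inl (biprod.desc bU (-bV)) y).trans
          (congrArg (fun φ => φ.hom.app (op W) y) (biprod.inl_desc bU (-bV)))
      have h₂ : (biprod.desc bU (-bV)).hom.app (op W) ((biprod.inr : PV ⟶ PU ⊞ PV).hom.app (op W) z) =
          -(bV.hom.app (op W) z) :=
        (app_comp biprod.inr (biprod.desc bU (-bV)) z).trans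
          (congrArg (fun φ => φ.hom.app (op W) z) (biprod.inr_desc bU (-bV)))
      refine (sub_eq_add_neg _ _).trans ((congrArg₂ (· + ·) h₁ h₂).symm.trans ?_)
      exact (map_add ((biprod.desc bU (-bV)).hom.app (op W)).hom _ _).symm.trans
        ((congrArg _ (biprod_app_ext W x).symm).trans hx)
    obtain ⟨s, hs₁, hs₂⟩ := exists_glue I (hP U W) (hP V W) (hA W) (hRU W) (hRV W) (hR W) y z
      (sub_eq_zero.1 hxyz)
    refine ⟨s, ?_⟩
    rw [biprod_app_ext W x]
    refine (biprod_app_ext W _).trans (congrArg₂ (· + ·) (congrArg _ ?_) (congrArg _ ?_))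
    · exact ((app_comp (biprod.lift aU aV) biprod.fst s).trans
        (congrArg (fun φ => φ.hom.app (op W) s) (biprod.lift_fst aU aV))).trans hs₁
    · exact ((app_comp (biprod.lift aU aV) biprod.snd s).trans
        (congrArg (fun φ => φ.hom.app (op W) s) (biprod.lift_snd aU aV))).trans hs₂
  have hepi : Epi (biprod.desc bU (-bV)) := by
    haveI : Sheaf.IsLocallySurjective (biprod.desc bU (-bV)) := by
      refine ⟨fun {W} t x hx => ?_⟩
      obtain ⟨y, hy⟩ := surjective_res I (hRU W) t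
      refine ⟨W, 𝟙 W, ⟨(biprod.inl : PU ⟶ PU ⊞ PV).hom.app (op W) y, ?_⟩, hx⟩
      refine ((app_comp biprod.inl (biprod.desc bU (-bV)) y).trans
        ((congrArg (fun φ => φ.hom.app (op W) y) (biprod.inl_desc bU (-bV))).trans hy)).trans ?_
      rw [op_id, CategoryTheory.Functor.map_id]
      rfl
    infer_instance
  exact { exact := hexact, mono_f := hmono, epi_g := hepi }

end Groth.Agent.Lib.TopMV.Relative
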